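import Groth.Agent.ValCartier.Global
import Groth.Agent.ASp.SchImage
import Groth.Agent.RelDivLib.Scheme
import Groth.Agent.BlowExistsLib.Chart

/-!
# Extending effective Cartier divisors from the generic fibre
-/

set_option autoImplicit false
set_option linter.style.haveILetI false
set_option maxHeartbeats 1000000
set_option backward.isDefEq.respectTransparency false
set_option backward.isDefEq.respectTransparency.types false

universe u

open CategoryTheory CategoryTheory.Limits AlgebraicGeometry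

namespace Groth.Agent.ValCartier

variable (R K : Type u) [CommRing R] [IsDomain R] [ValuationRing R] [Field K] [Algebra R K] [IsFractionRing R K]

/-- The inclusion of the generic point. -/
noncomputable abbrev gen : Spec (CommRingCat.of K) ⟶ Spec (CommRingCat.of R) := Spec.map (CommRingCat.ofHom (algebraMap R K))

theorem isPreimmersion_gen : IsPreimmersion (gen R K) := IsPreimmersion.of_isLocalization (nonZeroDivisors R)

theorem flat_gen : Flat (gen R K) :=
  (HasRingHomProperty.Spec_iff (P := @Flat)).2 (RingHom.flat_algebraMap_iff.2 (IsLocalization.flat K (nonZeroDivisors R)))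

theorem mono_gen : Mono (gen R K) := by
  haveI := isPreimmersion_gen R K
  infer_instance

theorem isAffineHom_gen : IsAffineHom (gen R K) := isAffineHom_of_isAffine _

/-- The closure of an effective Cartier divisor on the generic fibre of a smooth scheme. -/
theorem isEffCartier_ker {U UK : Scheme.{u}} (g : U ⟶ Spec (CommRingCat.of R)) [Smooth g] (pr : UK ⟶ U)
    (qK : UK ⟶ Spec (CommRingCat.of K)) (sq : IsPullback pr qK g (gen R K)) (I₀ : UK.IdealSheafData)
    (hI₀ : BlowUp.IsEffCartierIdeal I₀) :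
    BlowUp.IsEffCartierIdeal (I₀.subschemeι ≫ pr).ker := by
  haveI : IsPreimmersion pr := MorphismProperty.of_isPullback (P := @IsPreimmersion) sq.flip (isPreimmersion_gen R K)
  haveI : Flat pr := MorphismProperty.of_isPullback (P := @Flat) sq.flip (flat_gen R K)
  haveI : IsAffineHom pr := MorphismProperty.of_isPullback (P := @IsAffineHom) sq.flip (isAffineHom_gen R K)
  let w := I₀.subschemeι ≫ pr
  haveI : QuasiCompact w := inferInstance
  have hcomap : w.ker.comap pr = I₀ := by
    refine (Groth.Agent.ASp.ker_baseChange_flat (fst := 𝟙 _) (f' := I₀.subschemeι) ?_).trans I₀.ker_subschemeι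
    exact IsPullback.of_isLimit' ⟨Category.id_comp _⟩ (PullbackCone.IsLimit.mk _ (fun s => s.fst)
      (fun s => Category.comp_id _) (fun s => (cancel_mono pr).1 (by rw [Category.assoc]; exact s.condition))
      (fun s m h1 _ => by simpa using h1))
  intro u
  obtain ⟨_, ⟨W : U.Opens, hW, rfl⟩, huW, -⟩ :=
    U.isBasis_affineOpens.exists_subset_of_mem_open (Set.mem_univ u) isOpen_univ
  let φ : R →+* Γ(U, W) :=
    (g.appLE ⊤ W le_top).hom.comp (Scheme.ΓSpecIso (CommRingCat.of R)).inv.hom
  letI : Algebra R Γ(U, W) := φ.toAlgebra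
  haveI : Algebra.Smooth R Γ(U, W) := by
    refine (RingHom.smooth_algebraMap).1 ?_
    exact (RingHom.Smooth.of_bijective (f := (Scheme.ΓSpecIso (CommRingCat.of R)).inv.hom)
      (ConcreteCategory.bijective_of_isIso (Scheme.ΓSpecIso (CommRingCat.of R)).inv)).comp
      (g.smooth_appLE (isAffineOpen_top _) hW le_top)
  let J := w.ker.ideal ⟨W, hW⟩
  have hJ : J = RingHom.ker (w.app W).hom := Scheme.Hom.ker_apply w ⟨W, hW⟩
  have hsat : ∀ (v : R) (x : Γ(U, W)), v ≠ 0 → algebraMap R Γ(U, W) v * x ∈ J → x ∈ J := by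
    intro v x hv hx
    rw [hJ, RingHom.mem_ker, map_mul] at hx
    rw [hJ, RingHom.mem_ker]
    refine (IsUnit.mul_right_eq_zero ?_).1 hx
    have e1 : w ≫ g = (I₀.subschemeι ≫ qK) ≫ gen R K := by
      simp only [w, Category.assoc, sq.w]
    have e2 : (w.app W).hom (algebraMap R Γ(U, W) v) =
        ((Scheme.ΓSpecIso (CommRingCat.of R)).inv ≫ ((w ≫ g).appLE ⊤ (w ⁻¹ᵁ W) le_top)).hom v := by
      rw [← Scheme.Hom.appLE_comp_appLE w g ⊤ W (w ⁻¹ᵁ W) le_top le_rfl, Scheme.Hom.app_eq_appLE]
      rfl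
    rw [e2]
    have e3 : (w ≫ g).appLE ⊤ (w ⁻¹ᵁ W) le_top =
        (gen R K).appTop ≫ (I₀.subschemeι ≫ qK).appLE ⊤ (w ⁻¹ᵁ W) le_top := by
      simp only [e1]
      rw [Scheme.Hom.comp_appLE]
      rfl
    rw [e3, ← Scheme.ΓSpecIso_inv_naturality_assoc]
    refine IsUnit.map (((Scheme.ΓSpecIso (CommRingCat.of K)).inv ≫
      (I₀.subschemeι ≫ qK).appLE ⊤ (w ⁻¹ᵁ W) le_top).hom) (isUnit_iff_ne_zero.2 ?_)
    exact fun h => hv (IsFractionRing.injective R K (h.trans (map_zero _).symm))
  have hloc : ∀ (P : Ideal Γ(U, W)) [P.IsPrime], P.comap (algebraMap R Γ(U, W)) = ⊥ →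
      ∃ c : Localization.AtPrime P, c ≠ 0 ∧ J.map (algebraMap Γ(U, W) (Localization.AtPrime P)) = Ideal.span {c} := by
    intro P _ hP
    let y : PrimeSpectrum Γ(U, W) := ⟨P, inferInstance⟩
    let u' : U := hW.fromSpec y
    have hu' : u' ∈ W := by
      rw [← SetLike.mem_coe, ← hW.range_fromSpec]
      exact ⟨y, rfl⟩
    have hg : g u' ∈ Set.range (gen R K) := by
      refine ⟨(⟨⊥, Ideal.isPrime_bot⟩ : PrimeSpectrum K), ?_⟩
      have e : hW.fromSpec ≫ g = Spec.map (CommRingCat.ofHom φ) := by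
        rw [← IsAffineOpen.SpecMap_appLE_fromSpec g (isAffineOpen_top _) hW le_top,
          IsAffineOpen.fromSpec_top, Scheme.isoSpec_Spec_inv, ← Spec.map_comp]
        rfl
      show _ = (hW.fromSpec ≫ g) y
      rw [e]
      refine PrimeSpectrum.ext ?_
      show Ideal.comap (algebraMap R K) ⊥ = Ideal.comap φ P
      rw [Ideal.comap_bot_of_injective _ (IsFractionRing.injective R K)]
      exact hP.symm
    obtain ⟨x, hx⟩ : u' ∈ Set.range pr := by
      obtain ⟨x, hx⟩ : u' ∈ Set.range (pullback.fst g (gen R K)) := by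
        rw [Scheme.Pullback.range_fst]
        exact hg
      exact ⟨sq.isoPullback.inv x, by rw [← Scheme.Hom.comp_apply, sq.isoPullback_inv_fst, hx]⟩
    have hux : pr x ∈ W := by rw [hx]; exact hu'
    obtain ⟨c, hc, hcI⟩ := BlowExistsLib.exists_stalk_generator hI₀ x
    rw [← hcomap, IdealStalkLib.stalkIdeal_comap, IdealStalkLib.stalkIdeal_eq w.ker ⟨W, hW⟩ (pr x) hux] at hcI
    have hinj : Function.Injective (pr.stalkMap x).hom := by
      algebraize [(pr.stalkMap x).hom]
      have : Module.FaithfullyFlat (U.presheaf.stalk (pr x)) (UK.presheaf.stalk x) :=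
        @Module.FaithfullyFlat.of_flat_of_isLocalHom _ _ _ _ _ _ _ (Flat.stalkMap pr x) (pr.toLRSHom.prop x)
      exact ‹RingHom.FaithfullyFlat _›.injective
    let e := RingEquiv.ofBijective (pr.stalkMap x).hom ⟨hinj, pr.stalkMap_surjective x⟩
    have hyx : hW.fromSpec y = pr x := hx.symm
    have hmem : hW.fromSpec y ∈ W := hu'
    letI alg := TopCat.Presheaf.algebra_section_stalk U.presheaf (⟨hW.fromSpec y, hmem⟩ : W)
    haveI : IsLocalization.AtPrime (U.presheaf.stalk (hW.fromSpec y)) P := hW.isLocalization_stalk' y hmem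
    let c' := e.symm c
    have hJc : J.map (U.presheaf.germ W (pr x) hux).hom = Ideal.span {c'} := by
      have h1 := congrArg (Ideal.map e.symm.toRingHom) hcI
      have h2 : e.symm.toRingHom.comp (pr.stalkMap x).hom = RingHom.id _ :=
        RingHom.ext fun z => e.symm_apply_apply z
      rw [Ideal.map_map, h2, Ideal.map_id, Ideal.map_span, Set.image_singleton] at h1
      exact h1
    have hc' : c' ≠ 0 := fun h => nonZeroDivisors.ne_zero hc (by
      rw [← e.apply_symm_apply c]
      show e c' = 0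
      rw [h, map_zero])
    have key : ∀ (z : U) (hz : z ∈ W), z = pr x →
        ∃ c'' : U.presheaf.stalk z, c'' ≠ 0 ∧ J.map (U.presheaf.germ W z hz).hom = Ideal.span {c''} := by
      rintro _ hz rfl
      exact ⟨c', hc', hJc⟩
    obtain ⟨c'', hc'', hJc''⟩ := key _ hmem hyx
    let f := IsLocalization.algEquiv P.primeCompl (U.presheaf.stalk (hW.fromSpec y)) (Localization.AtPrime P)
    refine ⟨f c'', fun h => hc'' (f.injective (by rw [h, map_zero])), ?_⟩
    rw [show algebraMap Γ(U, W) (Localization.AtPrime P) =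
      f.toRingHom.comp (U.presheaf.germ W (hW.fromSpec y) hmem).hom from RingHom.ext fun z => (f.commutes z).symm,
      ← Ideal.map_map, hJc'', Ideal.map_span, Set.image_singleton]
    rfl
  obtain ⟨s, c, hs, hsc⟩ := exists_local_generator (V := R) J hsat hloc (hW.primeIdealOf ⟨u, huW⟩).asIdeal
  refine ⟨U.affineBasicOpen (U := ⟨W, hW⟩) s, ?_, ?_⟩
  · show u ∈ U.basicOpen s
    have h := hW.fromSpec_preimage_basicOpen s
    have h2 : hW.primeIdealOf ⟨u, huW⟩ ∈ hW.fromSpec ⁻¹ᵁ U.basicOpen s := by rw [h]; exact hs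
    have h3 := hW.fromSpec_primeIdealOf ⟨u, huW⟩
    exact (congrArg (· ∈ U.basicOpen s) h3).mp h2
  · letI : Algebra Γ(U, W) Γ(U, U.basicOpen s) :=
      (U.presheaf.map (homOfLE (U.basicOpen_le s)).op).hom.toAlgebra
    haveI : IsLocalization.Away s Γ(U, U.basicOpen s) := hW.isLocalization_basicOpen s
    obtain ⟨h1, h2⟩ := hsc Γ(U, U.basicOpen s)
    refine ⟨_, h1, (Eq.trans ?_ h2)⟩
    exact (w.ker.map_ideal (U := U.affineBasicOpen (U := ⟨W, hW⟩) s) (V := ⟨W, hW⟩) (U.basicOpen_le s)).symm

end Groth.Agent.ValCartier
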