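import Groth.Agent.ValCartier.Local
import Groth.Agent.CILib.LCISmooth
import Groth.Agent.S0406

/-!
# Horizontal divisors on smooth algebras over valuation rings
-/

set_option autoImplicit false
set_option linter.style.haveILetI false
set_option linter.unusedSectionVars false
set_option maxHeartbeats 1000000
set_option backward.isDefEq.respectTransparency false

universe u

open IsLocalRing TensorProduct Groth.Agent.FlatValPD

noncomputable section

namespace Groth.Agent.ValCartier

variable {V A : Type u} [CommRing V] [IsDomain V] [ValuationRing V] [CommRing A] [Algebra V A] [Algebra.Smooth V A]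

theorem isRegularLocalRing_fibre (q : Ideal A) [q.IsPrime] :
    IsRegularLocalRing (Localization.AtPrime q ⧸
      (q.comap (algebraMap V A)).map (algebraMap V (Localization.AtPrime q))) := by
  let p := q.comap (algebraMap V A)
  let Q := (PrimeSpectrum.preimageEquivFiber V A ⟨p, inferInstance⟩ ⟨⟨q, inferInstance⟩, rfl⟩ :
    PrimeSpectrum (p.Fiber A))
  have hQ : Q.asIdeal.comap (Algebra.TensorProduct.includeRight : A →ₐ[V] p.Fiber A).toRingHom = q := by
    have h := (PrimeSpectrum.preimageEquivFiber V A ⟨p, inferInstance⟩).symm_apply_apply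
      ⟨⟨q, inferInstance⟩, rfl⟩
    exact congrArg (fun x => x.1.asIdeal) h
  obtain ⟨e, -⟩ := Groth.Agent.CILib.exists_fibreLocal_equiv p q rfl Q.asIdeal hQ
  haveI := Comodule.ChevalleyLocal.isRegularLocalRing_of_smooth p.ResidueField Q.asIdeal
  exact IsRegularLocalRing.of_ringEquiv (R := Localization.AtPrime Q.asIdeal) e

theorem exists_generator_atPrime (J : Ideal A)
    (hsat : ∀ (v : V) (x : A), v ≠ 0 → algebraMap V A v * x ∈ J → x ∈ J)
    (hloc : ∀ (P : Ideal A) [P.IsPrime], P.comap (algebraMap V A) = ⊥ →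
      ∃ g : Localization.AtPrime P, g ≠ 0 ∧ J.map (algebraMap A (Localization.AtPrime P)) = Ideal.span {g})
    (q : Ideal A) [q.IsPrime] :
    IsDomain (Localization.AtPrime q) ∧ ∃ g ∈ J, algebraMap A (Localization.AtPrime q) g ≠ 0 ∧
      J.map (algebraMap A (Localization.AtPrime q)) = Ideal.span {algebraMap A (Localization.AtPrime q) g} := by
  let B := Localization.AtPrime q
  let p := q.comap (algebraMap V A)
  let W := Localization.AtPrime p
  haveI : ValuationRing W := valuationRing_localization V p
  let φ : W →+* B := Localization.localRingHom p q (algebraMap V A) rfl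
  letI : Algebra W B := φ.toAlgebra
  haveI : IsScalarTower V W B := .of_algebraMap_eq fun v => by
    show algebraMap V B v = φ (algebraMap V W v)
    rw [Localization.localRingHom_to_map, ← IsScalarTower.algebraMap_apply]
  haveI : IsLocalHom (algebraMap W B) := Localization.isLocalHom_localRingHom p q (algebraMap V A) rfl
  haveI : Algebra.EssFiniteType A B := Algebra.EssFiniteType.of_isLocalization B q.primeCompl
  haveI : Algebra.EssFiniteType V B := Algebra.EssFiniteType.comp V A B
  haveI : Algebra.EssFiniteType W B := Algebra.EssFiniteType.of_comp V W B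
  haveI : Module.Flat A B := IsLocalization.flat B q.primeCompl
  haveI : Module.Flat V B := Module.Flat.trans V A B
  haveI : Module.Flat W B := (Module.flat_iff_of_isLocalization W p.primeCompl (M := B)).mpr inferInstance
  have hI : fibIdeal W B = Ideal.map (algebraMap V B) p := by
    show (maximalIdeal W).map (algebraMap W B) = _
    rw [← Localization.AtPrime.map_eq_maximalIdeal, Ideal.map_map, ← IsScalarTower.algebraMap_eq]
  haveI : IsRegularLocalRing (B ⧸ fibIdeal W B) := by
    rw [hI]
    exact isRegularLocalRing_fibre q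
  haveI : IsDomain B := isDomain W
  refine ⟨‹_›, ?_⟩
  let JB := J.map (algebraMap A B)
  obtain ⟨g, hg0, hg⟩ := exists_generator W JB (fun w x hw hx => by
    obtain ⟨v, t, rfl⟩ := IsLocalization.exists_mk'_eq p.primeCompl w
    have hv : v ≠ 0 := fun h => hw (by rw [h, IsLocalization.mk'_zero])
    have hx1 : algebraMap V B v * x ∈ JB := by
      rw [IsScalarTower.algebraMap_apply V W B, ← IsLocalization.mk'_spec W v t, map_mul, mul_right_comm]
      exact Ideal.mul_mem_right _ _ hx
    obtain ⟨a, s, rfl⟩ := IsLocalization.exists_mk'_eq q.primeCompl x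
    rw [IsScalarTower.algebraMap_apply V A B, IsLocalization.mul_mk'_eq_mk'_of_mul,
      IsLocalization.mk'_mem_map_algebraMap_iff q.primeCompl B] at hx1
    obtain ⟨u, hu, hua⟩ := hx1
    rw [IsLocalization.mk'_mem_map_algebraMap_iff q.primeCompl B]
    refine ⟨u, hu, hsat v _ hv ?_⟩
    rw [mul_left_comm]
    exact hua) (fun P hP hPw => by
    let P' := P.comap (algebraMap A B)
    have hP' : P'.comap (algebraMap V A) = ⊥ := by
      rw [eq_bot_iff]
      intro v hv
      by_contra hv0
      refine hPw (algebraMap V W v) (fun h => hv0 ((Submodule.mem_bot V).2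
        (IsLocalization.injective W p.primeCompl_le_nonZeroDivisors (h.trans (map_zero _).symm)))) ?_
      rw [← IsScalarTower.algebraMap_apply, IsScalarTower.algebraMap_apply V A B]
      exact hv
    obtain ⟨g, hg0, hg⟩ := hloc P' hP'
    let L := Localization.AtPrime P
    haveI : IsLocalization.AtPrime L P' :=
      IsLocalization.isLocalization_isLocalization_atPrime_isLocalization q.primeCompl L P
    let e := IsLocalization.algEquiv P'.primeCompl (Localization.AtPrime P') L
    refine ⟨e g, fun h => hg0 (e.injective (by rw [h, map_zero])), ?_⟩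
    rw [Ideal.map_map, ← IsScalarTower.algebraMap_eq A B L,
      show algebraMap A L = e.toRingHom.comp (algebraMap A (Localization.AtPrime P')) from
        RingHom.ext fun x => (e.commutes x).symm, ← Ideal.map_map, hg, Ideal.map_span, Set.image_singleton]
    rfl)
  obtain ⟨⟨⟨h, hh⟩, t⟩, hgt⟩ := (IsLocalization.mem_map_algebraMap_iff q.primeCompl B).1
    (show g ∈ JB by rw [hg]; exact Ideal.mem_span_singleton_self g)
  dsimp only at hgt
  have hu : IsUnit (algebraMap A B t) := IsLocalization.map_units B t
  refine ⟨h, hh, ?_, ?_⟩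
  · rw [← hgt]
    exact mul_ne_zero hg0 hu.ne_zero
  · rw [← hgt, Ideal.span_singleton_mul_right_unit hu]
    exact hg

/-- A saturated ideal invertible on the generic fibre is locally generated by a nonzerodivisor. -/
theorem exists_local_generator (J : Ideal A)
    (hsat : ∀ (v : V) (x : A), v ≠ 0 → algebraMap V A v * x ∈ J → x ∈ J)
    (hloc : ∀ (P : Ideal A) [P.IsPrime], P.comap (algebraMap V A) = ⊥ →
      ∃ g : Localization.AtPrime P, g ≠ 0 ∧ J.map (algebraMap A (Localization.AtPrime P)) = Ideal.span {g})
    (q : Ideal A) [q.IsPrime] :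
    ∃ s g : A, s ∉ q ∧ ∀ (As : Type u) [CommRing As] [Algebra A As] [IsLocalization.Away s As],
      algebraMap A As g ∈ nonZeroDivisors As ∧ J.map (algebraMap A As) = Ideal.span {algebraMap A As g} := by
  classical
  haveI : Module.Flat V (A ⧸ J) := by
    rw [Module.Flat.flat_iff_torsion_eq_bot_of_isBezout, eq_bot_iff]
    rintro x ⟨⟨v, hv⟩, hvx⟩
    obtain ⟨x, rfl⟩ := Ideal.Quotient.mk_surjective x
    refine (Submodule.mem_bot V).mpr (Ideal.Quotient.eq_zero_iff_mem.2
      (hsat v x (nonZeroDivisors.ne_zero hv) ?_))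
    rw [← Ideal.Quotient.eq_zero_iff_mem, ← Algebra.smul_def, ← hvx]
    rfl
  haveI : Algebra.FinitePresentation V (A ⧸ J) := Groth.Agent.S0406.result
  have hJ : J.FG := by
    have h := Algebra.FinitePresentation.ker_fG_of_surjective (Ideal.Quotient.mkₐ V J)
      (Ideal.Quotient.mkₐ_surjective V J)
    simpa [Ideal.Quotient.mkₐ_ker] using h
  obtain ⟨-, g, hgJ, -, hg⟩ := exists_generator_atPrime J hsat hloc q
  obtain ⟨G, hG⟩ := hJ
  have hx : ∀ x ∈ G, ∃ u : A, u ∉ q ∧ u * x ∈ Ideal.span {g} := fun x hx => by
    have h1 : algebraMap A (Localization.AtPrime q) x ∈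
        (Ideal.span {g}).map (algebraMap A (Localization.AtPrime q)) := by
      rw [Ideal.map_span, Set.image_singleton, ← hg]
      exact Ideal.mem_map_of_mem _ (hG ▸ Ideal.subset_span hx)
    obtain ⟨u, hu, hux⟩ := (IsLocalization.algebraMap_mem_map_algebraMap_iff q.primeCompl _ _ x).1 h1
    exact ⟨u, hu, hux⟩
  choose u hu hux using hx
  refine ⟨∏ x ∈ G.attach, u x.1 x.2, g, fun h => ?_, fun As _ _ _ => ?_⟩
  · obtain ⟨x, -, hxq⟩ := (Ideal.IsPrime.prod_mem_iff).1 h
    exact hu x.1 x.2 hxq
  set s := ∏ x ∈ G.attach, u x.1 x.2 with hs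
  have hsu : IsUnit (algebraMap A As s) := IsLocalization.Away.algebraMap_isUnit s
  have hJle : J.map (algebraMap A As) ≤ Ideal.span {algebraMap A As g} := by
    rw [← hG, Ideal.map_span, Ideal.span_le]
    rintro _ ⟨x, hx, rfl⟩
    rw [SetLike.mem_coe, ← Ideal.unit_mul_mem_iff_mem _ hsu, ← map_mul, ← Set.image_singleton, ← Ideal.map_span]
    refine Ideal.mem_map_of_mem _ ?_
    rw [hs, ← Finset.mul_prod_erase G.attach _ (Finset.mem_attach G ⟨x, hx⟩), mul_right_comm]
    exact Ideal.mul_mem_right _ _ (hux x hx)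
  refine ⟨mem_nonZeroDivisors_iff_right.2 fun y hy => ?_, le_antisymm hJle
    ((Ideal.span_singleton_le_iff_mem _).2 (Ideal.mem_map_of_mem _ hgJ))⟩
  obtain ⟨n, b, hb⟩ := IsLocalization.Away.surj s y
  have h0 : algebraMap A As (b * g) = 0 := by rw [map_mul, ← hb, mul_right_comm, hy, zero_mul]
  obtain ⟨⟨_, m, rfl⟩, hm⟩ := (IsLocalization.map_eq_zero_iff (Submonoid.powers s) As _).1 h0
  have hkey : s ∈ (Submodule.span A {b}).annihilator.radical := by
    rw [Ideal.radical_eq_sInf, Submodule.mem_sInf]
    rintro P ⟨hPle, hP⟩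
    haveI := hP
    by_contra hsP
    obtain ⟨hdom, g', hg'J, hg'0, hg'⟩ := exists_generator_atPrime J hsat hloc P
    haveI := hdom
    let B := Localization.AtPrime P
    let ψ : As →+* B := IsLocalization.Away.lift s (g := algebraMap A B)
      (IsLocalization.map_units B (⟨s, hsP⟩ : Ideal.primeCompl P))
    have hψ : ψ.comp (algebraMap A As) = algebraMap A B := IsLocalization.Away.lift_comp _ _
    have hgB : algebraMap A B g ≠ 0 := fun h => hg'0 (by
      have h1 := Ideal.mem_map_of_mem ψ (hJle (Ideal.mem_map_of_mem (algebraMap A As) hg'J))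
      rw [Ideal.map_span, Set.image_singleton, ← RingHom.comp_apply, ← RingHom.comp_apply, hψ, h,
        Ideal.span_singleton_eq_bot.2 rfl] at h1
      exact h1)
    have hbB : algebraMap A B b = 0 := by
      have h1 := congrArg (algebraMap A B) hm
      rw [map_zero] at h1
      simp only [map_mul, mul_eq_zero] at h1
      rcases h1 with h1 | h1 | h1
      · exact absurd h1 (IsLocalization.map_units B (⟨s ^ m, fun h => hsP (hP.mem_of_pow_mem m h)⟩ : Ideal.primeCompl P)).ne_zero
      · exact h1
      · exact absurd h1 hgB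
    obtain ⟨⟨c, hc⟩, hcb⟩ := (IsLocalization.map_eq_zero_iff (Ideal.primeCompl P) B _).1 hbB
    exact hc (hPle (Submodule.mem_annihilator_span_singleton _ _ |>.2 hcb))
  obtain ⟨k, hk⟩ := hkey
  have hb0 : algebraMap A As b = 0 :=
    (IsLocalization.map_eq_zero_iff (Submonoid.powers s) As _).2
      ⟨⟨s ^ k, k, rfl⟩, Submodule.mem_annihilator_span_singleton _ _ |>.1 hk⟩
  rw [hb0] at hb
  exact ((IsUnit.pow n hsu).mul_left_eq_zero).1 hb

end Groth.Agent.ValCartier
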