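import Groth.Agent.PicValLib.Main
import Groth.Agent.RegLocal.UFD
import Groth.Agent.S1216

/-!
# Horizontal divisors on local rings over valuation rings
-/

set_option autoImplicit false
set_option linter.style.haveILetI false
set_option linter.unusedSectionVars false
set_option maxHeartbeats 1000000
set_option backward.isDefEq.respectTransparency false

universe u

open CategoryTheory IsLocalRing TensorProduct Groth.Agent.FlatValPD

noncomputable section

namespace Groth.Agent.ValCartier

variable (W : Type u) {A : Type u} [CommRing W] [IsDomain W] [ValuationRing W] [CommRing A] [IsLocalRing A]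
  [Algebra W A] [IsLocalHom (algebraMap W A)] [Algebra.EssFiniteType W A] [Module.Flat W A]
  [IsRegularLocalRing (A ⧸ fibIdeal W A)]

theorem smul_eq_zero {w : W} {x : A} (hw : w ≠ 0) (h : algebraMap W A w * x = 0) : x = 0 := by
  have ht : Submodule.torsion W A = ⊥ := Module.Flat.flat_iff_torsion_eq_bot_of_isBezout.mp inferInstance
  rw [← Submodule.mem_bot W, ← ht]
  refine ⟨⟨w, mem_nonZeroDivisors_of_ne_zero hw⟩, ?_⟩
  show w • x = 0
  rw [Algebra.smul_def, h]

theorem fibIdeal_isPrime : (fibIdeal W A).IsPrime := by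
  haveI := RegLocal.isDomain (A ⧸ fibIdeal W A)
  exact (Ideal.Quotient.isDomain_iff_prime _).1 inferInstance

/-- Every nonzero element is a scalar times an element which is nonzero on the closed fibre. -/
theorem exists_content {x : A} (hx : x ≠ 0) :
    ∃ (c : W) (x' : A), c ≠ 0 ∧ x' ∉ fibIdeal W A ∧ algebraMap W A c * x' = x := by
  obtain ⟨I, ⟨c, rfl⟩, hxI, hmin⟩ := Groth.Agent.S1216.result (A := W) (B := A) A x
  rw [Submodule.ideal_span_singleton_smul, Submodule.mem_smul_pointwise_iff_exists] at hxI
  obtain ⟨x', -, hx'⟩ := hxI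
  rw [Algebra.smul_def] at hx'
  refine ⟨c, x', fun h => hx ?_, fun hmem => ?_, hx'⟩
  · rw [← hx', h, map_zero, zero_mul]
  obtain ⟨w, hw, y, hy⟩ := exists_smul_eq_of_mem W (N := A) (x := x')
    (by rw [smul_eq_mul, Ideal.mul_top]; exact hmem)
  have hc0 : c ≠ 0 := fun h => hx (by rw [← hx', h, map_zero, zero_mul])
  have hle := hmin (Ideal.span {c * w}) (by
    rw [Submodule.ideal_span_singleton_smul, Submodule.mem_smul_pointwise_iff_exists]
    exact ⟨y, Submodule.mem_top, by rw [← hx', ← hy, Algebra.smul_def, Algebra.smul_def, map_mul, mul_assoc]⟩)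
  obtain ⟨d, hd⟩ := Ideal.mem_span_singleton'.1 (hle (Ideal.mem_span_singleton_self c))
  have h1 : d * w = 1 := mul_left_cancel₀ hc0 (by rw [mul_one]; linear_combination hd)
  exact (mem_maximalIdeal w).1 hw (IsUnit.of_mul_eq_one_right d h1)

include W in
theorem isDomain : IsDomain A := by
  haveI : NoZeroDivisors A := ⟨fun {a b} hab => by
    by_contra! h
    obtain ⟨c, a', hc, ha', rfl⟩ := exists_content W h.1
    obtain ⟨d, b', hd, hb', rfl⟩ := exists_content W h.2
    have h0 : a' * b' = 0 := smul_eq_zero W (mul_ne_zero hc hd) (by rw [map_mul]; linear_combination hab)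
    exact ((fibIdeal_isPrime W).mem_or_mem (h0 ▸ zero_mem _)).elim ha' hb'⟩
  exact NoZeroDivisors.to_isDomain A

/-- A saturated ideal which is invertible on the generic fibre is principal. -/
theorem exists_generator (J : Ideal A)
    (hsat : ∀ (w : W) (x : A), w ≠ 0 → algebraMap W A w * x ∈ J → x ∈ J)
    (hloc : ∀ (P : Ideal A) [P.IsPrime], (∀ w : W, w ≠ 0 → algebraMap W A w ∉ P) →
      ∃ g : Localization.AtPrime P, g ≠ 0 ∧ J.map (algebraMap A (Localization.AtPrime P)) = Ideal.span {g}) :
    ∃ g : A, g ≠ 0 ∧ J = Ideal.span {g} := by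
  haveI : IsDomain A := isDomain W
  obtain ⟨n, hn⟩ := RegLocal.exists_nat_ringKrullDim (A ⧸ fibIdeal W A)
  have hinj : ∀ w : W, w ≠ 0 → algebraMap W A w ≠ 0 := fun w hw h =>
    one_ne_zero (smul_eq_zero W hw (x := (1 : A)) (by rw [h, zero_mul]))
  let T := Algebra.algebraMapSubmonoid A (nonZeroDivisors W)
  have hT : T ≤ nonZeroDivisors A := by
    rintro _ ⟨w, hw, rfl⟩
    exact mem_nonZeroDivisors_of_ne_zero (hinj w (nonZeroDivisors.ne_zero hw))
  let S := Localization T
  haveI : IsDomain S := IsLocalization.isDomain_localization hT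
  haveI : Module.Flat A S := IsLocalization.flat S T
  haveI : Module.Flat W (A ⧸ J) := by
    rw [Module.Flat.flat_iff_torsion_eq_bot_of_isBezout, eq_bot_iff]
    rintro x ⟨⟨w, hw⟩, hwx⟩
    obtain ⟨x, rfl⟩ := Ideal.Quotient.mk_surjective x
    refine (Submodule.mem_bot W).mpr (Ideal.Quotient.eq_zero_iff_mem.2
      (hsat w x (nonZeroDivisors.ne_zero hw) ?_))
    rw [← Ideal.Quotient.eq_zero_iff_mem, ← Algebra.smul_def, ← hwx]
    rfl
  haveI : Module.FinitePresentation A (A ⧸ J) := finitePresentation_of_flat W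
  haveI : Module.Finite A J := Module.Finite.iff_fg.mpr (by
    have h := Module.FinitePresentation.fg_ker (Submodule.mkQ J) (Submodule.mkQ_surjective J)
    rwa [Submodule.ker_mkQ] at h)
  haveI : Module.Flat W A := ‹_›
  haveI : Module.Flat W J := flat_of_injective W (J.subtype.restrictScalars W) Subtype.val_injective
  haveI : Module.FinitePresentation A J := finitePresentation_of_flat W
  have hpd : HasProjectiveDimensionLT (ModuleCat.of A J) (n + 1) :=
    hasProjectiveDimensionLT_of_fibre W n J (RegLocal.hasProjectiveDimensionLT (A ⧸ fibIdeal W A) n hn _)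
  let JS := J.map (algebraMap A S)
  have hlocal : ∀ (M : Ideal S) [M.IsMaximal],
      ∃ g : Localization.AtPrime M, g ≠ 0 ∧ JS.map (algebraMap S (Localization.AtPrime M)) = Ideal.span {g} := by
    intro M _
    let P := M.comap (algebraMap A S)
    have hP : ∀ w : W, w ≠ 0 → algebraMap W A w ∉ P := fun w hw h =>
      (inferInstance : M.IsPrime).ne_top (Ideal.eq_top_of_isUnit_mem _ h
        (IsLocalization.map_units S (⟨_, w, mem_nonZeroDivisors_of_ne_zero hw, rfl⟩ : T)))
    obtain ⟨g, hg0, hg⟩ := hloc P hP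
    let L := Localization.AtPrime M
    haveI : IsLocalization.AtPrime L P :=
      IsLocalization.isLocalization_isLocalization_atPrime_isLocalization T L M
    let e := IsLocalization.algEquiv P.primeCompl (Localization.AtPrime P) L
    refine ⟨e g, fun h => hg0 (e.injective (by rw [h, map_zero])), ?_⟩
    rw [Ideal.map_map, ← IsScalarTower.algebraMap_eq A S L,
      show algebraMap A L = e.toRingHom.comp (algebraMap A (Localization.AtPrime P)) from
        RingHom.ext fun x => (e.commutes x).symm, ← Ideal.map_map, hg, Ideal.map_span, Set.image_singleton]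
    rfl
  haveI : Module.Flat S JS := by
    refine Module.flat_of_isLocalized_maximal S JS (fun M _ => ↥(JS.map (algebraMap S (Localization.AtPrime M))))
      (fun M _ => Algebra.idealMap JS (S := Localization.AtPrime M)) fun M _ => ?_
    obtain ⟨g, hg0, hg⟩ := hlocal M
    haveI : IsDomain (Localization.AtPrime M) := IsLocalization.isDomain_localization M.primeCompl_le_nonZeroDivisors
    haveI : Module.Flat (Localization.AtPrime M) ↥(JS.map (algebraMap S (Localization.AtPrime M))) := by
      rw [hg]
      exact Module.Flat.of_linearEquiv (LinearEquiv.toSpanNonzeroSingleton (Localization.AtPrime M) _ g hg0).symm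
    exact Module.Flat.trans S (Localization.AtPrime M) _
  let eJ : S ⊗[A] J ≃ₗ[S] JS :=
    (IsLocalizedModule.isBaseChange T S (Algebra.idealMap (S := S) J)).equiv
  haveI : Module.Finite S JS := Module.Finite.equiv eJ
  haveI : Module.Flat S (S ⊗[A] J) := Module.Flat.of_linearEquiv eJ
  haveI : Module.FinitePresentation S (S ⊗[A] J) := inferInstance
  haveI : Module.Projective S (S ⊗[A] J) := Module.Flat.projective_of_finitePresentation
  haveI := PicValLib.isStablyFree_baseChange W S n J hpd inferInstance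
  haveI : Module.IsStablyFree S JS := Module.IsStablyFree.equiv eJ
  have hJS0 : JS ≠ ⊥ := fun h => by
    obtain ⟨M, hM⟩ := Ideal.exists_maximal S
    obtain ⟨g, hg0, hg⟩ := hlocal M
    rw [h, Ideal.map_bot, eq_comm, Ideal.span_singleton_eq_bot] at hg
    exact hg0 hg
  obtain ⟨g, hg⟩ := (RegLocal.isPrincipal_of_isStablyFree JS hJS0).principal
  obtain ⟨⟨⟨h, hh⟩, ⟨t, ht⟩⟩, hgt⟩ := (IsLocalization.mem_map_algebraMap_iff T S).1
    (show g ∈ JS by rw [hg]; exact Submodule.mem_span_singleton_self g)
  dsimp only at hgt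
  have hu : IsUnit (algebraMap A S t) := IsLocalization.map_units S (⟨t, ht⟩ : T)
  have hh0 : h ≠ 0 := fun h0 => hJS0 (by
    have h2 : g * algebraMap A S t = 0 := by rw [hgt, h0, map_zero]
    rw [hg, hu.mul_left_eq_zero.1 h2, Submodule.span_singleton_eq_bot])
  obtain ⟨c, h', hc, hh', rfl⟩ := exists_content W hh0
  have hh'J : h' ∈ J := hsat c h' hc hh
  refine ⟨h', fun h0 => hh' (h0 ▸ zero_mem _), le_antisymm (fun x hx => ?_)
    ((Ideal.span_singleton_le_iff_mem _).2 hh'J)⟩
  have hxS : algebraMap A S x ∈ JS := Ideal.mem_map_of_mem _ hx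
  rw [hg] at hxS
  obtain ⟨z, hz⟩ := Submodule.mem_span_singleton.1 hxS
  rw [smul_eq_mul] at hz
  obtain ⟨⟨a, ⟨_, s, hs, rfl⟩⟩, ha⟩ := IsLocalization.surj T z
  obtain ⟨r, hr, rfl⟩ := ht
  have hx2 : algebraMap W A (r * s) * x = a * algebraMap W A c * h' := by
    apply IsLocalization.injective S hT
    simp only [map_mul] at ha hgt ⊢
    linear_combination (-(algebraMap A S (algebraMap W A s) *
      algebraMap A S (algebraMap W A r))) * hz + (algebraMap A S (algebraMap W A r) * g) * ha +
      algebraMap A S a * hgt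
  have hrs : r * s ≠ 0 := mul_ne_zero (nonZeroDivisors.ne_zero hr) (nonZeroDivisors.ne_zero hs)
  by_cases hb : a * algebraMap W A c = 0
  · rw [hb, zero_mul] at hx2
    rw [smul_eq_zero W hrs hx2]
    exact zero_mem _
  obtain ⟨e, b', he, hb', heb⟩ := exists_content W hb
  rw [← heb, mul_assoc] at hx2
  rcases ValuationRing.dvd_total (r * s) e with ⟨k, hk⟩ | ⟨k, hk⟩
  · have h1 : x = algebraMap W A k * (b' * h') := by
      refine sub_eq_zero.1 (smul_eq_zero W hrs ?_)
      simp only [hk, map_mul] at hx2 ⊢
      linear_combination hx2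
    rw [h1, ← mul_assoc]
    exact Ideal.mem_span_singleton.2 (dvd_mul_left _ _)
  · have h1 : algebraMap W A k * x = b' * h' := by
      refine sub_eq_zero.1 (smul_eq_zero W he ?_)
      simp only [hk, map_mul] at hx2 ⊢
      linear_combination hx2
    by_cases hku : IsUnit k
    · obtain ⟨v, hv⟩ := hku
      refine Ideal.mem_span_singleton.2 ⟨algebraMap W A (↑v⁻¹) * b', ?_⟩
      calc x = algebraMap W A (↑v⁻¹) * (algebraMap W A k * x) := by
            rw [← mul_assoc, ← map_mul, ← hv, Units.inv_mul, map_one, one_mul]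
        _ = _ := by rw [h1]; ring
    · refine absurd ((fibIdeal_isPrime W).mem_or_mem (h1 ▸ Ideal.mul_mem_right x _ ?_)) (not_or.2 ⟨hb', hh'⟩)
      exact Ideal.mem_map_of_mem _ ((mem_maximalIdeal k).2 hku)

end Groth.Agent.ValCartier
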